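import Mathlib
import Groth.Prelude.Def_HopfRep
import Groth.Agent.Lib.Helper6.NormQ.NQ6

/-!
# Trigonalizability through chains with characters (helper6)

Part 1 (over a field): a Hopf algebra is trigonalizable if and only if it is exhausted by the
filtration `tfilt`, whose `(n+1)`-st step is spanned by the elements `x` with
`Δ x - x ⊗ g ∈ tfilt n ⊗ B` for some group-like `g`.
-/

set_option autoImplicit false
set_option linter.unusedSectionVars false
set_option linter.unusedVariables false
set_option linter.unusedSimpArgs false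
set_option linter.style.haveILetI false
set_option linter.overlappingInstances false
set_option maxHeartbeats 800000
set_option synthInstance.maxHeartbeats 400000

noncomputable section

namespace Groth.Agent.Lib.Helper6.TrigFib

open TensorProduct Groth.Agent.Helper2.FF Groth.Agent.Helper2.HopfSub
  Groth.Agent.Helper2.HopfLib Groth.Agent.Helper2.MultPart Groth.Agent.Helper2.Unip
  Groth.Agent.Helper9 Groth.Agent.Lib.Helper6.FlagGrp Groth.Agent.Helper2.Pointed
  Groth.Agent.Lib.Helper6.NormQ

universe u v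

section defs

variable (k : Type u) [CommRing k] {B : Type v} [CommRing B] [Bialgebra k B]

/-- the elements `x` with `Δ x - x ⊗ g ∈ F ⊗ B` -/
def charStep (g : B) (F : Submodule k B) : Submodule k B :=
  (LinearMap.range (F.subtype.rTensor B)).comap
    (Coalgebra.comul (R := k) (A := B) - (TensorProduct.mk k B B).flip g)

lemma mem_charStep {g : B} {F : Submodule k B} {x : B} :
    x ∈ charStep k g F ↔ Coalgebra.comul (R := k) x - x ⊗ₜ[k] g ∈
      LinearMap.range (F.subtype.rTensor B) := Iff.rfl

lemma range_rTensor_mono' {F G : Submodule k B} (h : F ≤ G) :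
    LinearMap.range (F.subtype.rTensor B) ≤ LinearMap.range (G.subtype.rTensor B) := by
  rintro _ ⟨t, rfl⟩
  refine ⟨(Submodule.inclusion h).rTensor B t, ?_⟩
  rw [← LinearMap.comp_apply, ← LinearMap.rTensor_comp]
  rfl

lemma charStep_mono (g : B) {F G : Submodule k B} (h : F ≤ G) :
    charStep k g F ≤ charStep k g G :=
  fun x hx => range_rTensor_mono' k h hx

variable (B) in
/-- the filtration by chains with characters -/
def tfilt : ℕ → Submodule k B
  | 0 => ⊥
  | n + 1 => ⨆ g : {g : B // IsGroupLikeElem k g}, charStep k g.1 (tfilt n)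

lemma tfilt_zero : tfilt k B 0 = ⊥ := rfl

lemma tfilt_succ (n : ℕ) : tfilt k B (n + 1) =
    ⨆ g : {g : B // IsGroupLikeElem k g}, charStep k g.1 (tfilt k B n) := rfl

lemma charStep_le_tfilt_succ {g : B} (hg : IsGroupLikeElem k g) (n : ℕ) :
    charStep k g (tfilt k B n) ≤ tfilt k B (n + 1) := by
  rw [tfilt_succ]
  exact le_iSup (fun g : {g : B // IsGroupLikeElem k g} => charStep k g.1 (tfilt k B n)) ⟨g, hg⟩

lemma tfilt_mono_succ (n : ℕ) : tfilt k B n ≤ tfilt k B (n + 1) := by
  induction n with
  | zero => rw [tfilt_zero]; exact bot_le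
  | succ n ih =>
    rw [tfilt_succ k n, tfilt_succ k (n + 1)]
    exact iSup_mono (fun g => charStep_mono k g.1 ih)

lemma tfilt_mono : Monotone (tfilt k B) := monotone_nat_of_le_succ (tfilt_mono_succ k)

/-- a chain with characters lies in `tfilt` -/
lemma le_tfilt_of_chain (F : ℕ → Submodule k B) (g : ℕ → B) (h0 : F 0 = ⊥)
    (hg : ∀ i, IsGroupLikeElem k (g i))
    (hstep : ∀ i, F (i + 1) ≤ charStep k (g i) (F i)) : ∀ i, F i ≤ tfilt k B i := by
  intro i
  induction i with
  | zero => rw [h0]; exact bot_le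
  | succ i ih =>
    exact (hstep i).trans ((charStep_mono k (g i) ih).trans (charStep_le_tfilt_succ k (hg i) i))

end defs

section fwd

variable {k : Type u} [Field k] {B : Type v} [CommRing B] [Bialgebra k B]

/-- in a trigonalizable bialgebra every element lies in a chain with characters -/
theorem exists_chain_of_isTrigonalizable (hT : HopfRep.IsTrigonalizable k B) (x : B) :
    ∃ (m : ℕ) (F : ℕ → Submodule k B) (g : ℕ → B), F 0 = ⊥ ∧ x ∈ F m ∧
      (∀ i, IsGroupLikeElem k (g i)) ∧ ∀ i, F (i + 1) ≤ charStep k (g i) (F i) := by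
  obtain ⟨W, hWfin, hxW, hW⟩ := exists_finite_subcomod_mem (k := k) (C := B) (V := B) x
  letI : HopfRep.Comod k B W := subComod W hW
  obtain ⟨m, F', hmono, hF0, hFm, hsub, hcyc⟩ := hasLineFlag_of_isTrigonalizable hT W hWfin
  have hch : ∀ i, ∃ g : B, IsGroupLikeElem k g ∧ ∀ v ∈ F' (i + 1),
      HopfRep.Comod.coact (k := k) (A := B) v - v ⊗ₜ[k] g ∈
        LinearMap.range ((F' i).subtype.rTensor B) := by
    intro i
    obtain ⟨e, he, hev⟩ := hcyc i
    exact exists_char_of_step (F' i) (F' (i + 1)) (hsub i) (hsub (i + 1)) e he hev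
  choose g hg hgv using hch
  refine ⟨m, fun i => (F' i).map W.subtype, g, ?_, ?_, hg, ?_⟩
  · show (F' 0).map W.subtype = ⊥
    rw [hF0, Submodule.map_bot]
  · show x ∈ (F' m).map W.subtype
    rw [hFm]
    exact ⟨⟨x, hxW⟩, trivial, rfl⟩
  · intro i y hy
    obtain ⟨w, hw, rfl⟩ := hy
    obtain ⟨t, ht⟩ := hgv i w hw
    rw [mem_charStep]
    let φ : F' i →ₗ[k] (F' i).map W.subtype :=
      LinearMap.codRestrict _ (W.subtype ∘ₗ (F' i).subtype) (fun v => ⟨v, v.2, rfl⟩)
    refine ⟨φ.rTensor B t, ?_⟩
    have h1 : ∀ t : F' i ⊗[k] B,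
        ((F' i).map W.subtype).subtype.rTensor B (φ.rTensor B t) =
          W.subtype.rTensor B ((F' i).subtype.rTensor B t) := by
      intro t
      induction t using TensorProduct.induction_on with
      | zero => simp
      | tmul a b => rfl
      | add x y hx hy => simp only [map_add, hx, hy]
    have h2 : W.subtype.rTensor B (HopfRep.Comod.coact (k := k) (A := B) w) =
        Coalgebra.comul (R := k) (w : B) := subtype_rTensor_subCoact W hW w
    rw [h1, ht, map_sub, h2, LinearMap.rTensor_tmul]
    rfl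

/-- a trigonalizable bialgebra is exhausted by `tfilt` -/
theorem exists_mem_tfilt_of_isTrigonalizable (hT : HopfRep.IsTrigonalizable k B) (x : B) :
    ∃ n, x ∈ tfilt k B n := by
  obtain ⟨m, F, g, h0, hx, hg, hstep⟩ := exists_chain_of_isTrigonalizable hT x
  exact ⟨m, le_tfilt_of_chain k F g h0 hg hstep m hx⟩

end fwd

section bwd

variable {k : Type u} [Field k] {B : Type v} [CommRing B] [HopfAlgebra k B]

/-- the image of `tfilt` in a quotient killing the characters lies in the unipotent filtration -/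
lemma tfilt_le_comap_filt (J : Ideal B) [J.IsHopfIdeal k]
    (hJ : ∀ g : B, IsGroupLikeElem k g → Ideal.Quotient.mk J g = 1) :
    ∀ n, tfilt k B n ≤ (filt k (B ⧸ J) n).comap (Ideal.Quotient.mkₐ k J).toLinearMap := by
  intro n
  induction n with
  | zero => rw [tfilt_zero]; exact bot_le
  | succ n ih =>
    rw [tfilt_succ]
    apply iSup_le
    rintro ⟨g, hg⟩ w hw
    obtain ⟨t, ht⟩ := mem_charStep k |>.mp hw
    let π : B →ₗ[k] B ⧸ J := (Ideal.Quotient.mkₐ k J).toLinearMap
    have hπ : ∀ a, π a = Ideal.Quotient.mk J a := fun a => rfl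
    show π w ∈ filt k (B ⧸ J) (n + 1)
    rw [mem_filt_succ]
    let g' : tfilt k B n →ₗ[k] filt k (B ⧸ J) n :=
      LinearMap.codRestrict (filt k (B ⧸ J) n) (π ∘ₗ (tfilt k B n).subtype)
        (fun v => ih v.2)
    refine ⟨TensorProduct.map g' π t, ?_⟩
    have h1 : ∀ t : (tfilt k B n) ⊗[k] B,
        (filt k (B ⧸ J) n).subtype.rTensor (B ⧸ J) (TensorProduct.map g' π t) =
        TensorProduct.map π π ((tfilt k B n).subtype.rTensor B t) := by
      intro t
      induction t using TensorProduct.induction_on with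
      | zero => simp
      | tmul a b => rfl
      | add x y hx hy => simp only [map_add, hx, hy]
    have h3 : π g = 1 := hJ g hg
    rw [h1, ht, map_sub, TensorProduct.map_tmul, h3]
    rfl

/-- a Hopf algebra exhausted by `tfilt` is trigonalizable -/
theorem isTrigonalizable_of_tfilt (h : ∀ x : B, ∃ n, x ∈ tfilt k B n) :
    HopfRep.IsTrigonalizable k B := by
  have hHS : HS (glSub k B) := HS_glSub
  haveI hJH : (augJ (glSub k B)).IsHopfIdeal k := isHopfIdeal_augJ _ hHS
  have hJ : ∀ g : B, IsGroupLikeElem k g → Ideal.Quotient.mk (augJ (glSub k B)) g = 1 := by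
    intro g hg
    have hgm : g ∈ glSub k B := Algebra.subset_adjoin hg
    rw [mk_eq_of_mem (glSub k B) hgm, hg.counit_eq_one, map_one]
  have hU : HopfRep.IsUnipotent k (B ⧸ augJ (glSub k B)) := by
    refine isUnipotent_of_filtration (filt k (B ⧸ augJ (glSub k B))) filt_zero filt_mono ?_
      (fun n x hx => mem_filt_succ.mp hx)
    intro y
    obtain ⟨a, rfl⟩ := Ideal.Quotient.mk_surjective y
    obtain ⟨n, hn⟩ := h a
    exact ⟨n, tfilt_le_comap_filt (augJ (glSub k B)) hJ n hn⟩
  letI hHopf : HopfAlgebra k (glSub k B) := hopfB (glSub k B) hHS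
  have hD : HopfRep.IsDiagonalizable k (glSub k B) := isDiagonalizable_glSub
  have hJeq : augJ (glSub k B) = Ideal.map ((inclB (glSub k B) hHS : glSub k B →ₐc[k] B) : glSub k B →+* B)
      (RingHom.ker (Bialgebra.counitAlgHom k (glSub k B))) := augJ_eq_map _ hHS
  exact isTrigonalizable_of_diag_quotient (inclB (glSub k B) hHS) (inclB_injective _ hHS)
    (augJ (glSub k B)) hJeq hD hU

end bwd

end Groth.Agent.Lib.Helper6.TrigFib
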