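import Mathlib
import Groth.Prelude.Def_HopfRep
import Groth.Agent.Lib.Helper6.TrigFib.TF1
import Groth.Agent.Lib.Helper2.Unip.Special
import Groth.Agent.Lib.Helper6.Isotriv.GroupLike

/-!
# Trigonalizability of the special fibre (helper6)

`A` a discrete valuation ring with fraction field `K`, `H` a flat commutative Hopf algebra over `A`.
If `K ⊗ H` is trigonalizable then so is `κ ⊗ H` for the residue field `κ`.

The chains with characters of `TF1` are pulled back from the generic fibre to `H` (group-like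
elements of the generic fibre come from group-like elements of `H` since `A` is a discrete
valuation ring) and then pushed to the special fibre.
-/

set_option autoImplicit false
set_option linter.unusedSectionVars false
set_option linter.unusedVariables false
set_option linter.unusedSimpArgs false
set_option linter.style.haveILetI false
set_option linter.overlappingInstances false
set_option maxHeartbeats 800000
set_option synthInstance.maxHeartbeats 400000

noncomputable section

namespace Groth.Agent.Lib.Helper6.TrigFib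

open TensorProduct Groth.Agent.Helper2.Unip Groth.Agent.Helper9

universe u v w

section general

variable {k : Type u} [CommRing k] (R : Type v) [CommRing R] [Algebra k R]
  {A : Type w} [CommRing A] [Bialgebra k A]

/-- a step of a chain with characters is preserved by base change -/
lemma baseChange_step (F G : Submodule k A) (g : A) (hFG : G ≤ charStep k g F) :
    G.baseChange R ≤ charStep R ((1 : R) ⊗ₜ[k] g) (F.baseChange R) := by
  rw [Submodule.baseChange_eq_span, Submodule.span_le]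
  rintro _ ⟨a, ha, rfl⟩
  rw [SetLike.mem_coe, mem_charStep]
  show Coalgebra.comul (R := R) ((1 : R) ⊗ₜ[k] a) -
    ((1 : R) ⊗ₜ[k] a) ⊗ₜ[R] ((1 : R) ⊗ₜ[k] g) ∈ _
  have h1 : ((1 : R) ⊗ₜ[k] a) ⊗ₜ[R] ((1 : R) ⊗ₜ[k] g) =
      Θe R A ((1 : R) ⊗ₜ[k] (a ⊗ₜ[k] g)) := by
    rw [Θe_tmul]
  rw [comul_tmul_eq, h1, ← map_sub, ← TensorProduct.tmul_sub]
  exact Θe_mem_range F 1 _ (hFG ha)

end general

section domain

variable (A : Type u) [CommRing A] [IsDomain A] (K : Type v) [Field K] [Algebra A K]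
  [IsFractionRing A K] {H : Type w} [CommRing H] [Bialgebra A H] [Module.Flat A H]

/-- the pullback to `H` of a subspace of the generic fibre -/
def pb (F : Submodule K (K ⊗[A] H)) : Submodule A H :=
  Submodule.comap (inc A K H) (F.restrictScalars A)

lemma mem_pb {F : Submodule K (K ⊗[A] H)} {h : H} :
    h ∈ pb A K F ↔ (1 : K) ⊗ₜ[A] h ∈ F := Iff.rfl

lemma pb_bot : pb A K (⊥ : Submodule K (K ⊗[A] H)) = ⊥ := by
  rw [eq_bot_iff]
  intro h hh
  rw [mem_pb, Submodule.mem_bot] at hh
  rw [Submodule.mem_bot]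
  apply inc_injective A K
  rw [inc_apply, hh, map_zero]

/-- the pullback is saturated -/
lemma mem_pb_of_smul_mem {F : Submodule K (K ⊗[A] H)} {c : A} (hc : c ≠ 0) {h : H}
    (hh : c • h ∈ pb A K F) : h ∈ pb A K F := by
  rw [mem_pb] at hh ⊢
  rw [smul_one_tmul] at hh
  have hcK : algebraMap A K c ≠ 0 := by
    rw [Ne, map_eq_zero_iff _ (IsFractionRing.injective A K)]
    exact hc
  have := Submodule.smul_mem _ (algebraMap A K c)⁻¹ hh
  rwa [smul_smul, inv_mul_cancel₀ hcK, one_smul] at this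

/-- `pb F ⊗ H` is saturated in `H ⊗ H` -/
lemma mem_range_pb_of_smul_mem {F : Submodule K (K ⊗[A] H)} {c : A} (hc : c ≠ 0)
    (z : H ⊗[A] H)
    (hz : c • z ∈ LinearMap.range ((pb A K F).subtype.rTensor H)) :
    z ∈ LinearMap.range ((pb A K F).subtype.rTensor H) := by
  rw [← rTensor_mkQ] at hz ⊢
  rw [LinearMap.mem_ker] at hz ⊢
  set Q := H ⧸ pb A K F
  let m : Q →ₗ[A] Q := LinearMap.lsmul A Q c
  have hm : Function.Injective m := by
    rw [← LinearMap.ker_eq_bot, eq_bot_iff]
    intro q hq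
    obtain ⟨h, rfl⟩ := Submodule.mkQ_surjective _ q
    rw [LinearMap.mem_ker] at hq
    have h1 : (pb A K F).mkQ (c • h) = 0 := by
      rw [map_smul]; exact hq
    rw [Submodule.mkQ_apply, Submodule.Quotient.mk_eq_zero] at h1
    rw [Submodule.mem_bot, Submodule.mkQ_apply, Submodule.Quotient.mk_eq_zero]
    exact mem_pb_of_smul_mem A K hc h1
  have hm2 : Function.Injective (m.rTensor H) :=
    Module.Flat.rTensor_preserves_injective_linearMap m hm
  apply hm2
  rw [map_zero]
  have h2 : ∀ y : Q ⊗[A] H, m.rTensor H y = c • y := by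
    intro y
    induction y using TensorProduct.induction_on with
    | zero => simp
    | add a b ha hb => rw [map_add, ha, hb, smul_add]
    | tmul q h => rw [LinearMap.rTensor_tmul, TensorProduct.smul_tmul']; rfl
  rw [h2, ← map_smul, hz]

/-- clearing denominators in `F ⊗ (K ⊗ H)` -/
lemma exists_smul_eq_Θe_pb (F : Submodule K (K ⊗[A] H)) (t : F ⊗[K] (K ⊗[A] H)) :
    ∃ c : A, c ≠ 0 ∧ ∃ s : (pb A K F) ⊗[A] H,
      c • (F.subtype.rTensor (K ⊗[A] H) t) =
        Θe K H ((1 : K) ⊗ₜ[A] ((pb A K F).subtype.rTensor H s)) := by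
  induction t using TensorProduct.induction_on with
  | zero => exact ⟨1, one_ne_zero, 0, by simp⟩
  | tmul y w =>
    obtain ⟨a, ha, f, hf⟩ := exists_smul_eq_inc A K (y : K ⊗[A] H)
    obtain ⟨b, hb, g, hg⟩ := exists_smul_eq_inc A K w
    have hfmem : f ∈ pb A K F := by
      rw [mem_pb, ← inc_apply, ← hf]
      have : a • (y : K ⊗[A] H) = algebraMap A K a • (y : K ⊗[A] H) :=
        (algebraMap_smul K a (y : K ⊗[A] H)).symm
      rw [this]
      exact Submodule.smul_mem _ _ y.2
    refine ⟨a * b, mul_ne_zero ha hb, (⟨f, hfmem⟩ : pb A K F) ⊗ₜ[A] g, ?_⟩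
    rw [LinearMap.rTensor_tmul, LinearMap.rTensor_tmul, Submodule.subtype_apply,
      Submodule.subtype_apply, Θe_tmul]
    have e1 : (a * b) • ((y : K ⊗[A] H) ⊗ₜ[K] w) = (a • (y : K ⊗[A] H)) ⊗ₜ[K] (b • w) := by
      rw [← algebraMap_smul K b w, TensorProduct.tmul_smul, algebraMap_smul,
        ← TensorProduct.smul_tmul', smul_smul, mul_comm]
    rw [e1, hf, hg]
    rfl
  | add t₁ t₂ h₁ h₂ =>
    obtain ⟨c₁, hc₁, s₁, e₁⟩ := h₁
    obtain ⟨c₂, hc₂, s₂, e₂⟩ := h₂
    refine ⟨c₁ * c₂, mul_ne_zero hc₁ hc₂, c₂ • s₁ + c₁ • s₂, ?_⟩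
    rw [map_add, smul_add, map_add, TensorProduct.tmul_add, map_add, map_smul, map_smul,
      TensorProduct.tmul_smul, TensorProduct.tmul_smul]
    have hsm : ∀ (c : A) (y : K ⊗[A] (H ⊗[A] H)), Θe K H (c • y) = c • Θe K H y := by
      intro c y
      rw [← algebraMap_smul K c y, map_smul, algebraMap_smul]
    rw [hsm, hsm, ← e₁, ← e₂, smul_smul, smul_smul, mul_comm c₁ c₂]

/-- a step of a chain with characters in the generic fibre pulls back to `H` -/
lemma pb_step (F F' : Submodule K (K ⊗[A] H)) (g : H)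
    (hstep : F' ≤ charStep K ((1 : K) ⊗ₜ[A] g) F) :
    pb A K F' ≤ charStep A g (pb A K F) := by
  intro h hh
  rw [mem_charStep]
  have hh' := hstep ((mem_pb A K).mp hh)
  rw [mem_charStep] at hh'
  obtain ⟨t, ht⟩ := hh'
  obtain ⟨c, hc, s, hs⟩ := exists_smul_eq_Θe_pb A K F t
  set z := Coalgebra.comul (R := A) h - h ⊗ₜ[A] g with hz
  have h1 : Θe K H ((1 : K) ⊗ₜ[A] z) =
      Coalgebra.comul (R := K) ((1 : K) ⊗ₜ[A] h) -
        ((1 : K) ⊗ₜ[A] h) ⊗ₜ[K] ((1 : K) ⊗ₜ[A] g) := by
    rw [hz, TensorProduct.tmul_sub, map_sub, ← comul_tmul_eq, Θe_tmul]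
  rw [ht, ← h1] at hs
  have h2 : c • Θe K H ((1 : K) ⊗ₜ[A] z) = Θe K H ((1 : K) ⊗ₜ[A] (c • z)) := by
    rw [TensorProduct.tmul_smul, ← algebraMap_smul K c ((1 : K) ⊗ₜ[A] z), map_smul,
      algebraMap_smul]
  rw [h2] at hs
  have h3 := (Θe K H).injective hs
  have hinj2 : Function.Injective
      (Algebra.TensorProduct.includeRight : H ⊗[A] H →ₐ[A] K ⊗[A] (H ⊗[A] H)) :=
    Algebra.TensorProduct.includeRight_injective (A := K) (B := H ⊗[A] H)
      (IsFractionRing.injective A K)
  have h4 : c • z = (pb A K F).subtype.rTensor H s := hinj2 h3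
  exact mem_range_pb_of_smul_mem A K hc z ⟨s, h4.symm⟩

end domain

section dvr

variable (A : Type u) [CommRing A] [IsDomain A] [IsDiscreteValuationRing A]
  (H : Type v) [CommRing H] [Algebra A H]

/-- an element vanishing in the special fibre is divisible by the uniformizer -/
lemma exists_smul_eq_of_one_tmul_eq_zero {ϖ : A} (hϖ : Irreducible ϖ) (h : H)
    (hh : (1 : IsLocalRing.ResidueField A) ⊗ₜ[A] h = 0) : ∃ h' : H, ϖ • h' = h := by
  have h0 : ((1 : A ⧸ IsLocalRing.maximalIdeal A) ⊗ₜ[A] h :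
      (A ⧸ IsLocalRing.maximalIdeal A) ⊗[A] H) = 0 := hh
  have h1 : TensorProduct.quotTensorEquivQuotSMul H (IsLocalRing.maximalIdeal A)
      ((1 : A ⧸ IsLocalRing.maximalIdeal A) ⊗ₜ[A] h) = 0 := by
    rw [h0, map_zero]
  rw [TensorProduct.quotTensorEquivQuotSMul_mk_one_tmul, Submodule.Quotient.mk_eq_zero,
    hϖ.maximalIdeal_eq, Submodule.ideal_span_singleton_smul,
    Submodule.mem_smul_pointwise_iff_exists] at h1
  obtain ⟨s, -, hs⟩ := h1
  exact ⟨s, hs⟩

/-- if `ϖ • z = h ⊗ h` then `h` vanishes in the special fibre -/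
lemma one_tmul_eq_zero_of_smul_eq_tmul_self {ϖ : A} (hϖ : Irreducible ϖ) (h : H)
    (z : H ⊗[A] H) (hz : ϖ • z = h ⊗ₜ[A] h) :
    (1 : IsLocalRing.ResidueField A) ⊗ₜ[A] h = 0 := by
  by_contra hne
  obtain ⟨f, hf⟩ := Module.Projective.exists_dual_ne_zero (IsLocalRing.ResidueField A) hne
  let φ : H →ₗ[A] IsLocalRing.ResidueField A :=
    (f.restrictScalars A) ∘ₗ (TensorProduct.mk A (IsLocalRing.ResidueField A) H 1)
  let β : H ⊗[A] H →ₗ[A] IsLocalRing.ResidueField A :=
    LinearMap.mul' A (IsLocalRing.ResidueField A) ∘ₗ TensorProduct.map φ φ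
  have hβ : β (h ⊗ₜ[A] h) = f ((1 : IsLocalRing.ResidueField A) ⊗ₜ[A] h) *
      f ((1 : IsLocalRing.ResidueField A) ⊗ₜ[A] h) := by
    show LinearMap.mul' A _ (TensorProduct.map φ φ (h ⊗ₜ[A] h)) = _
    rw [TensorProduct.map_tmul, LinearMap.mul'_apply]
    rfl
  have h0 : β (ϖ • z) = 0 := by
    rw [map_smul, Algebra.smul_def]
    have hϖ0 : algebraMap A (IsLocalRing.ResidueField A) ϖ = 0 := by
      rw [IsLocalRing.ResidueField.algebraMap_eq, IsLocalRing.residue_eq_zero_iff,
        IsLocalRing.mem_maximalIdeal, mem_nonunits_iff]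
      exact hϖ.not_isUnit
    rw [hϖ0, zero_mul]
  rw [hz, hβ] at h0
  exact hf (mul_self_eq_zero.mp h0)

end dvr

section gl

variable (A : Type u) [CommRing A] [IsDomain A] [IsDiscreteValuationRing A]
  (K : Type u) [Field K] [Algebra A K] [IsFractionRing A K]
  {H : Type u} [CommRing H] [Bialgebra A H] [Module.Flat A H]

/-- over a discrete valuation ring, the group-like elements of the generic fibre come from `H` -/
lemma exists_eq_inc_of_isGroupLikeElem {g : K ⊗[A] H} (hg : IsGroupLikeElem K g) :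
    ∃ h : H, IsGroupLikeElem A h ∧ (1 : K) ⊗ₜ[A] h = g := by
  obtain ⟨ϖ, hϖ⟩ := IsDiscreteValuationRing.exists_irreducible A
  have hϖ0 : ϖ ≠ 0 := hϖ.ne_zero
  have hϖK : algebraMap A K ϖ ≠ 0 := by
    rw [Ne, map_eq_zero_iff _ (IsFractionRing.injective A K)]
    exact hϖ0
  have key : ∀ (m : ℕ) (h : H), ϖ ^ m • g = inc A K H h → ∃ h' : H, inc A K H h' = g := by
    intro m
    induction m with
    | zero =>
      intro h hh
      exact ⟨h, by rw [← hh, pow_zero, one_smul]⟩
    | succ m ih =>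
      intro h hh
      have hΔ : ϖ ^ (m + 1) • Coalgebra.comul (R := A) h = h ⊗ₜ[A] h := by
        have hinj2 : Function.Injective
            (Algebra.TensorProduct.includeRight : H ⊗[A] H →ₐ[A] K ⊗[A] (H ⊗[A] H)) :=
          Algebra.TensorProduct.includeRight_injective (A := K) (B := H ⊗[A] H)
            (IsFractionRing.injective A K)
        apply hinj2
        apply (Θe K H).injective
        show Θe K H ((1 : K) ⊗ₜ[A] (ϖ ^ (m + 1) • Coalgebra.comul (R := A) h)) =
          Θe K H ((1 : K) ⊗ₜ[A] (h ⊗ₜ[A] h))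
        have hc : (algebraMap A K (ϖ ^ (m + 1))) • g = (1 : K) ⊗ₜ[A] h := by
          rw [algebraMap_smul]
          exact hh
        have e1 : Θe K H ((1 : K) ⊗ₜ[A] (ϖ ^ (m + 1) • Coalgebra.comul (R := A) h)) =
            algebraMap A K (ϖ ^ (m + 1)) • Coalgebra.comul (R := K) ((1 : K) ⊗ₜ[A] h) := by
          rw [TensorProduct.tmul_smul,
            ← algebraMap_smul K (ϖ ^ (m + 1)) ((1 : K) ⊗ₜ[A] Coalgebra.comul (R := A) h),
            map_smul, ← comul_tmul_eq]
        have e2 : Θe K H ((1 : K) ⊗ₜ[A] (h ⊗ₜ[A] h)) =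
            ((1 : K) ⊗ₜ[A] h) ⊗ₜ[K] ((1 : K) ⊗ₜ[A] h) := Θe_tmul 1 h h
        rw [e1, e2, ← hc, map_smul, hg.comul_eq_tmul_self, TensorProduct.tmul_smul,
          ← TensorProduct.smul_tmul']
      have hN : ϖ • (ϖ ^ m • Coalgebra.comul (R := A) h) = h ⊗ₜ[A] h := by
        rw [smul_smul, ← pow_succ']
        exact hΔ
      have h0 := one_tmul_eq_zero_of_smul_eq_tmul_self A H hϖ h _ hN
      obtain ⟨h', rfl⟩ := exists_smul_eq_of_one_tmul_eq_zero A H hϖ h h0
      apply ih h'
      have h5 : algebraMap A K ϖ • (ϖ ^ m • g) = algebraMap A K ϖ • inc A K H h' := by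
        rw [algebraMap_smul, algebraMap_smul, smul_smul, ← pow_succ', hh, map_smul]
      exact smul_right_injective (K ⊗[A] H) hϖK h5
  obtain ⟨b, hb, h₀, hbh⟩ := exists_smul_eq_inc A K g
  obtain ⟨m, u, rfl⟩ := IsDiscreteValuationRing.eq_unit_mul_pow_irreducible hb hϖ
  have h2 : ϖ ^ m • g = inc A K H ((↑u⁻¹ : A) • h₀) := by
    rw [map_smul, ← hbh, smul_smul, ← mul_assoc, Units.inv_mul, one_mul]
  obtain ⟨h', hh'⟩ := key m _ h2
  have e : (1 : K) ⊗ₜ[A] h' = g := hh'
  refine ⟨h', ?_, e⟩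
  apply Groth.Agent.Lib.Helper6.Isotriv.isGroupLikeElem_of_one_tmul K
    (IsFractionRing.injective A K)
  rw [e]
  exact hg

end gl

section main

variable {A : Type u} [CommRing A] [IsDomain A] [IsDiscreteValuationRing A]
  (K : Type u) [Field K] [Algebra A K] [IsFractionRing A K]
  {H : Type u} [CommRing H] [HopfAlgebra A H] [Module.Flat A H]

/-- trigonalizability of the generic fibre implies trigonalizability of the special fibre -/
theorem isTrigonalizable_specialFibre (hK : HopfRep.IsTrigonalizable K (K ⊗[A] H)) :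
    HopfRep.IsTrigonalizable (IsLocalRing.ResidueField A)
      (IsLocalRing.ResidueField A ⊗[A] H) := by
  apply isTrigonalizable_of_tfilt
  have hmem : ∀ (r : IsLocalRing.ResidueField A) (a : H), ∃ n,
      r ⊗ₜ[A] a ∈ tfilt (IsLocalRing.ResidueField A) (IsLocalRing.ResidueField A ⊗[A] H) n := by
    intro r a
    obtain ⟨m, F, g, hF0, hxm, hg, hstep⟩ :=
      exists_chain_of_isTrigonalizable hK ((1 : K) ⊗ₜ[A] a)
    have hch : ∀ i, ∃ h : H, IsGroupLikeElem A h ∧ (1 : K) ⊗ₜ[A] h = g i :=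
      fun i => exists_eq_inc_of_isGroupLikeElem A K (hg i)
    choose h hhgl hhg using hch
    let N : ℕ → Submodule (IsLocalRing.ResidueField A) (IsLocalRing.ResidueField A ⊗[A] H) :=
      fun i => (pb A K (F i)).baseChange (IsLocalRing.ResidueField A)
    have h0 : N 0 = ⊥ := by
      show (pb A K (F 0)).baseChange _ = ⊥
      rw [hF0, pb_bot, Submodule.baseChange_bot]
    have hgl : ∀ i, IsGroupLikeElem (IsLocalRing.ResidueField A)
        ((1 : IsLocalRing.ResidueField A) ⊗ₜ[A] h i) := fun i =>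
      Groth.Agent.Lib.Helper6.Isotriv.isGroupLikeElem_one_tmul _ (hhgl i)
    have hst : ∀ i, N (i + 1) ≤ charStep (IsLocalRing.ResidueField A)
        ((1 : IsLocalRing.ResidueField A) ⊗ₜ[A] h i) (N i) := by
      intro i
      apply baseChange_step
      apply pb_step
      rw [hhg i]
      exact hstep i
    exact ⟨m, le_tfilt_of_chain (IsLocalRing.ResidueField A) N _ h0 hgl hst m
      (Submodule.tmul_mem_baseChange_of_mem r ((mem_pb A K).mpr hxm))⟩
  intro x
  induction x using TensorProduct.induction_on with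
  | zero => exact ⟨0, Submodule.zero_mem _⟩
  | tmul r a => exact hmem r a
  | add x y hx hy =>
    obtain ⟨n, hn⟩ := hx
    obtain ⟨m, hm⟩ := hy
    exact ⟨max n m, Submodule.add_mem _ (tfilt_mono _ (le_max_left n m) hn)
      (tfilt_mono _ (le_max_right n m) hm)⟩

end main

end Groth.Agent.Lib.Helper6.TrigFib
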